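import Groth.Agent.KEulerLib.Bounds
import Groth.Agent.DefSchLib.LCIRel
import Groth.Agent.RelDivLib.H1Quasi
import Groth.Prelude.Def_RegImm

/-!
# Regular implies Koszul-regular implies `H_1`-regular
-/

set_option autoImplicit false
set_option linter.style.haveILetI false
set_option backward.isDefEq.respectTransparency false

universe u

open CategoryTheory CategoryTheory.Limits

noncomputable section

namespace Groth.Agent.RegKindLib

open Groth.Agent.KEulerLib Groth.Agent.KoszulCech Groth.Agent.LocCohLib CohIII

variable {A : Type u} [CommRing A]

theorem subsingleton_HK_of_isWeaklyRegular : ∀ (l : List A) (N : Type u) [AddCommGroup N] [Module A N],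
    RingTheory.Sequence.IsWeaklyRegular N l → ∀ i : ℤ, i ≠ 0 → Subsingleton (HK (ModuleCat.of A N) l i)
  | [], N, _, _, _, i, hi => subsingleton_HK (ModuleCat.of A N) ([] : List A) i (by
      simp only [List.length_nil, Nat.cast_zero, neg_zero]; omega)
  | f :: t, N, _, _, h, i, hi => by
    rw [RingTheory.Sequence.isWeaklyRegular_cons_iff] at h
    obtain ⟨hreg, ht⟩ := h
    have e : QuotSMulTop f N ≃ₗ[A] N ⧸ srange f N := Submodule.quotEquivOfEq _ _ (by
      ext x; simp [srange, Submodule.mem_smul_pointwise_iff_exists])
    haveI := subsingleton_HK_of_isWeaklyRegular t (N ⧸ srange f N) ((e.isWeaklyRegular_congr t).mp ht) i hi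
    exact Module.length_eq_zero_iff.mp ((length_HK_cons_regular N hreg t i).trans Module.length_eq_zero)

open CochainComplex in
/-- Cones of scalar multiplications of isomorphic complexes. -/
def coneSmulIso (f : A) {K L : CochainComplex (ModuleCat.{u} A) ℤ} (e : K ≅ L) :
    mappingCone (f • 𝟙 K) ≅ mappingCone (f • 𝟙 L) where
  hom := mappingCone.map _ _ e.hom e.hom (by simp)
  inv := mappingCone.map _ _ e.inv e.inv (by simp)
  hom_inv_id := by
    rw [← mappingCone.map_comp]
    simp only [Iso.hom_inv_id]
    exact mappingCone.map_id _
  inv_hom_id := by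
    rw [← mappingCone.map_comp]
    simp only [Iso.inv_hom_id]
    exact mappingCone.map_id _

/-- The coefficient complex in the ring is the Koszul complex. -/
def koszulCxSelfIso : ∀ l : List A, koszulCx (ModuleCat.of A A) l ≅ Koszul.koszul A l
  | [] => Iso.refl _
  | f :: t => coneSmulIso f (koszulCxSelfIso t)

/-- A regular sequence is Koszul-regular. -/
theorem isKoszulRegularSeq_of_isRegular {l : List A} (hl : RingTheory.Sequence.IsRegular A l) :
    LCI.IsKoszulRegularSeq A l := fun i hi => by
  haveI := subsingleton_HK_of_isWeaklyRegular l A hl.toIsWeaklyRegular i hi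
  exact IsZero.of_iso (ModuleCat.isZero_of_subsingleton (HK (ModuleCat.of A A) l i))
    ((HomologicalComplex.homologyFunctor _ _ i).mapIso (koszulCxSelfIso l).symm)

open DefSchLib CotTLib in
/-- A Koszul-regular sequence is `H_1`-regular. -/
theorem isH1Regular_of_isKoszulRegularSeq {l : List A} (hl : LCI.IsKoszulRegularSeq A l) :
    CAlgX.IsH1Regular l.get := by
  intro a ha
  classical
  set S := Submodule.span A {v : Fin l.length → A | ∃ i j : Fin l.length,
    v = Pi.single i (l.get j) - Pi.single j (l.get i)} with hS
  have hsub : (trivR l.get).map (Finsupp.linearEquivFunOnFinite A A (Fin l.length)).toLinearMap ≤ S := by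
    rw [trivR, Submodule.map_span, Submodule.span_le]
    rintro _ ⟨_, ⟨x, x', rfl⟩, rfl⟩
    simp only [LinearEquiv.coe_coe, map_sub, map_smul, SetLike.mem_coe]
    induction x using Finsupp.induction_linear with
    | zero => simp
    | add x y hx hy =>
      convert S.add_mem hx hy using 1
      simp only [map_add, add_smul, smul_add]
      abel
    | single i r =>
      induction x' using Finsupp.induction_linear with
      | zero => simp
      | add x y hx hy =>
        convert S.add_mem hx hy using 1
        simp only [map_add, add_smul, smul_add]
        abel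
      | single j s =>
        have hv : Pi.single j (l.get i) - Pi.single i (l.get j) ∈ S := Submodule.subset_span ⟨j, i, rfl⟩
        convert S.smul_mem (r * s) hv using 1
        funext k
        simp [Finsupp.linearCombination_single, Pi.single_apply]
        split_ifs <;> simp_all <;> ring
  have hmem := hsub ⟨_, ker_le_trivR_of_isKoszulRegularSeq hl (x := Finsupp.equivFunOnFinite.symm a) (by
    rw [LinearMap.mem_ker, Finsupp.linearCombination_apply, Finsupp.sum_fintype _ _ (fun _ => by simp)]
    simpa using ha), rfl⟩
  convert hmem using 1
  funext k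
  simp

end Groth.Agent.RegKindLib
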